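import Groth.Agent.S1611
import Groth.Agent.S1522
import Groth.Agent.VeryAmpleLib.Bc
import Groth.Agent.RRVanLib.GG
import Groth.Agent.CurveVBLib.Integral
import Groth.Agent.PicPnLib.BaseChange
import Groth.Prelude.Def_LCI2

/-!
# Curves: large degree is very ample and has no `H¹`
-/

set_option autoImplicit false
set_option linter.style.haveILetI false
universe u

open CategoryTheory CategoryTheory.Limits AlgebraicGeometry
open KFlatLib (pb)

noncomputable section

namespace FibVALib

theorem geometricallyIntegral_of_geometricallyConnected {X S : Scheme.{u}} (f : X ⟶ S) [IsProper f] [Smooth f]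
    [GeometricallyConnected f] : GeometricallyIntegral f := by
  refine ⟨fun K _ y Z fst snd h => ?_⟩
  letI : Z.Over (Spec (CommRingCat.of K)) := ⟨snd⟩
  haveI : IsProper (Z ↘ Spec (CommRingCat.of K)) := MorphismProperty.of_isPullback h ‹IsProper f›
  haveI : Smooth (Z ↘ Spec (CommRingCat.of K)) := MorphismProperty.of_isPullback h ‹Smooth f›
  haveI : GeometricallyConnected (Z ↘ Spec (CommRingCat.of K)) :=
    MorphismProperty.of_isPullback h ‹GeometricallyConnected f›
  exact CurveVBLib.isIntegral_of_smooth_geomConnected K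

variable (k : Type u) [Field k] (X : Scheme.{u}) [X.Over (Spec (CommRingCat.of k))]
  [IsProper (X ↘ Spec (CommRingCat.of k))] [GeometricallyIntegral (X ↘ Spec (CommRingCat.of k))]
  (hdim : topologicalKrullDim X = 1)

attribute [local instance] VeryAmpleLib.bcOver

include hdim in
/-- Only constants are global functions. -/
theorem finrank_h0_structure : Module.finrank k (Coh.HH X (Coh.structureModule X) 0) = 1 := by
  haveI : IsIntegral X := GeometricallyIntegral.isIntegral_of_subsingleton (X ↘ Spec (CommRingCat.of k))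
  haveI := VeryAmpleLib.isProper_bc k X (AlgebraicClosure k)
  haveI := VeryAmpleLib.isIntegral_bc k X (AlgebraicClosure k)
  rw [← VeryAmpleLib.h0_bc k X (AlgebraicClosure k)]
  exact RRVanLib.finrank_h0_structure

include hdim in
/-- `H¹` vanishes in degree at least `2g - 1`. -/
theorem h1_vanish {L : X.Modules} (hL : PicF.IsInvertible L)
    (hdeg : 2 * (Curv2.genus k X : ℤ) - 1 ≤ Curv2.deg k X L 1) : Subsingleton (Coh.HH X L 1) := by
  haveI : IsIntegral X := GeometricallyIntegral.isIntegral_of_subsingleton (X ↘ Spec (CommRingCat.of k))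
  let K := AlgebraicClosure k
  haveI := VeryAmpleLib.isProper_bc k X K
  haveI := VeryAmpleLib.isIntegral_bc k X K
  have h := Groth.Agent.S1522.result K (Curv2.bc k X K) ((VeryAmpleLib.dim_bc k X K).trans hdim)
    (pb (Curv2.bcFst k X K) L) (AmpleDevLib.isInvertible_pb _ hL)
    (by rw [VeryAmpleLib.genus_bc, VeryAmpleLib.deg_bc k X K hL]; exact hdeg)
  haveI := CurvLib.finite_HH (k := k) (CurvLib.isCoh_of_isInvertible hL) 1
  refine Module.finrank_zero_iff (R := k).1 ?_
  rw [← HilbPolyLib.finrank_HH_bc K (TwistLib.isQCoh_of_isInvertible hL) 1]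
  exact Module.finrank_zero_of_subsingleton

include hdim in
/-- Degree at least `2g + 1` is very ample. -/
theorem isRelVeryAmplePn_of_deg {L : X.Modules} (hL : PicF.IsInvertible L)
    (hdeg : 2 * (Curv2.genus k X : ℤ) + 1 ≤ Curv2.deg k X L 1) :
    RelAmple.IsRelVeryAmplePn (X ↘ Spec (CommRingCat.of k)) L := by
  obtain ⟨n, i, hi, hik, ⟨e⟩⟩ := Groth.Agent.S1611.result k X hdim (finrank_h0_structure k X hdim) L hL hdeg
  obtain ⟨j, hj, hd⟩ := PicPnLib.exists_square n k (𝟙 (Spec (CommRingCat.of k)))
  haveI : IsIso j := hj.isIso_fst_of_isIso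
  refine ⟨n, i ≫ j, inferInstance, ?_, ⟨?_⟩⟩
  · exact ((Category.assoc i j _).trans (congrArg (i ≫ ·) (hj.w.trans (Category.comp_id _)))).trans hik
  · exact e.symm ≪≫ (Scheme.Modules.pullback i).mapIso (hd 1).some.symm ≪≫
      (Scheme.Modules.pullbackComp i j).app _

end FibVALib

end
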