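import Groth.Agent.PicPnLib.BaseChange
import Groth.Agent.CohCmpLib.GenExists
import Groth.Prelude.Def_ProjUP

/-!
# Base change of `P^n` carries coordinates to coordinates
-/

set_option autoImplicit false
set_option maxHeartbeats 1000000
universe u

open CategoryTheory CategoryTheory.Limits AlgebraicGeometry TopologicalSpace Opposite
open HomogeneousLocalization AmpleLib

noncomputable section

namespace FibVALib

variable {R R' A B : Type u} [CommRing R] [CommRing R'] [CommRing A] [Algebra R A] {𝒜 : ℕ → Submodule R A} [GradedAlgebra 𝒜]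
  [CommRing B] [Algebra R' B] {ℬ : ℕ → Submodule R' B} [GradedAlgebra ℬ]
  (φ : 𝒜 →+*ᵍ ℬ) (hφ : HomogeneousIdeal.irrelevant ℬ ≤ (HomogeneousIdeal.irrelevant 𝒜).map φ)

/-- `O(1)` pulls back to `O(1)`, global linear forms going to their images. -/
theorem exists_iso_pullback_map {ι : Type*} (t : ι → A) (ht : ∀ a, t a ∈ 𝒜 1)
    (hcov : ∀ y : Proj ℬ, ∃ a, y ∈ Proj.basicOpen ℬ (φ (t a))) :
    ∃ β : (Scheme.Modules.pullback (Proj.map φ hφ)).obj (Twist.twist 𝒜 ((1 : ℕ) : ℤ)) ≅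
      Twist.twist ℬ ((1 : ℕ) : ℤ), ∀ a, β.hom.app ⊤ (ProjUP.pullSec (Proj.map φ hφ) _ (Twist.globalOf 𝒜 ⟨t a, ht a⟩)) =
        Twist.globalOf ℬ ⟨φ (t a), φ.map_mem (ht a)⟩ := by
  let f := Proj.map φ hφ
  let O1 := Twist.twist 𝒜 ((1 : ℕ) : ℤ)
  let O1' := Twist.twist ℬ ((1 : ℕ) : ℤ)
  let D : ι → (Proj ℬ).Opens := fun a => f ⁻¹ᵁ Proj.basicOpen 𝒜 (t a)
  let e : ∀ a, Γ(KFlatLib.pb f O1, D a) := fun a =>
    KFlatLib.puSec f (res O1 (le_top : Proj.basicOpen 𝒜 (t a) ≤ ⊤) (Twist.globalOf 𝒜 ⟨t a, ht a⟩))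
  let g : ∀ a, Γ(O1', D a) := fun a =>
    res O1' (le_top : D a ≤ ⊤) (Twist.globalOf ℬ ⟨φ (t a), φ.map_mem (ht a)⟩)
  have he : ∀ a, GenOn (KFlatLib.pb f O1) (e a) := fun a =>
    TwistLib.genOn_of_genAt fun x hx =>
      TwistLib.GenAt.puSec f ((TwistLib.globalOf_genOn 𝒜 (ht a)).genAt hx)
  have e2 : ∀ a b, f.app (Proj.basicOpen 𝒜 (t a)) (Proj.awayToSection 𝒜 (t a) (TwistLib.frac 𝒜 (ht a) (ht b))) =
      Proj.awayToSection ℬ (φ (t a)) (TwistLib.frac ℬ (φ.map_mem (ht a)) (φ.map_mem (ht b))) := fun a b => by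
    rw [Scheme.Hom.app_eq_appLE]
    exact PicPnLib.map_appLE_fr φ hφ (ht a) (ht b)
  obtain ⟨β, hβ⟩ := TwistLib.exists_hom_of_gens (M := KFlatLib.pb f O1) (N := O1') D e g hcov he
    (fun a b V ha hb c hc => by
      have h1 := congrArg (KFlatLib.puSec f) (TwistLib.frac_smul_globalOf 𝒜 (ht a) (ht b))
      rw [TwistLib.puSec_smul,
        TwistLib.puSec_res f le_top (show Γ(O1, ⊤) from Twist.globalOf 𝒜 ⟨t b, ht b⟩)] at h1
      have h2 := congrArg (res (KFlatLib.pb f O1) ha) h1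
      rw [res_smul, res_res] at h2
      have h3 : res (KFlatLib.pb f O1) hb (e b) =
          res (KFlatLib.pb f O1) (le_top : V ≤ f ⁻¹ᵁ ⊤) (KFlatLib.puSec f (show Γ(O1, ⊤) from Twist.globalOf 𝒜 ⟨t b, ht b⟩)) := by
        exact (congrArg (res (KFlatLib.pb f O1) hb)
          (TwistLib.puSec_res f le_top (show Γ(O1, ⊤) from Twist.globalOf 𝒜 ⟨t b, ht b⟩))).trans (res_res _ _ _ _)
      have hc' := (he a V ha).1 (hc.trans (h3.trans h2.symm))
      have h4 := congrArg (res O1' (show V ≤ Proj.basicOpen ℬ (φ (t a)) from ha))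
        (TwistLib.frac_smul_globalOf ℬ (φ.map_mem (ht a)) (φ.map_mem (ht b)))
      rw [res_smul, res_res, res_res] at h4
      rw [hc']
      refine Eq.trans ?_ (h4.trans (res_res O1' le_top hb _).symm)
      refine congrArg₂ (fun (x : Γ(Proj ℬ, V)) y => x • y) (congrArg _ (e2 a b)) (res_res O1' le_top ha _))
  haveI : IsIso β := by
    refine TwistLib.isIso_of_gen β fun x => ?_
    obtain ⟨a, hx⟩ := hcov x
    exact ⟨D a, hx, e a, (he a).genAt hx, (hβ a).symm ▸ (TwistLib.globalOf_genOn ℬ (φ.map_mem (ht a))).genAt hx⟩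
  refine ⟨asIso β, fun a => ?_⟩
  refine CohCmpLib.mod_eq_of_locally O1' D (fun b => le_top) (fun y _ => Opens.mem_iSup.mpr (hcov y)) _ _ fun b => ?_
  refine (QCohLib.app_map β (homOfLE (le_top : D b ≤ ⊤)) _).symm.trans ?_
  have h5 : (KFlatLib.pb f O1).presheaf.map (homOfLE (le_top : D b ≤ ⊤)).op
      (ProjUP.pullSec f O1 (Twist.globalOf 𝒜 ⟨t a, ht a⟩)) =
      KFlatLib.puSec f ((show Γ(Proj 𝒜, Proj.basicOpen 𝒜 (t b)) from
        Proj.awayToSection 𝒜 (t b) (TwistLib.frac 𝒜 (ht b) (ht a))) •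
        res O1 (le_top : Proj.basicOpen 𝒜 (t b) ≤ ⊤) (Twist.globalOf 𝒜 ⟨t b, ht b⟩)) := by
    rw [TwistLib.frac_smul_globalOf 𝒜 (ht b) (ht a)]
    exact (TwistLib.puSec_res f le_top (show Γ(O1, ⊤) from Twist.globalOf 𝒜 ⟨t a, ht a⟩)).symm
  refine (congrArg (β.app (D b)) h5).trans ?_
  rw [TwistLib.puSec_smul, QCohLib.app_smul]
  refine (congrArg₂ (fun (x : Γ(Proj ℬ, D b)) y => x • y) (e2 b a) (hβ b)).trans ?_
  exact TwistLib.frac_smul_globalOf ℬ (φ.map_mem (ht b)) (φ.map_mem (ht a))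

attribute [local instance] MvPolynomial.algebraMvPolynomial

/-- `P^n_{R'}` is `P^n_R` based changed, coordinates matching. -/
theorem exists_baseChange (n : ℕ) {R R' : Type u} [CommRing R] [CommRing R'] (ρ : R →+* R') :
    ∃ (j : CohB1.ProjSpace n R' ⟶ CohB1.ProjSpace n R)
      (_ : IsPullback j (CohB1.ProjSpace.toSpec n R') (CohB1.ProjSpace.toSpec n R) (Spec.map (CommRingCat.ofHom ρ)))
      (θ : (Scheme.Modules.pullback j).obj (Twist.twistProjSpace n R 1) ≅ Twist.twistProjSpace n R' 1),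
      ∀ i, θ.hom.app ⊤ (ProjUP.pullSec j _ (ProjUP.coord n R i)) = ProjUP.coord n R' i := by
  letI : Algebra R R' := ρ.toAlgebra
  let φ : CohB1.polyGrading n R →+*ᵍ CohB1.polyGrading n R' :=
    { MvPolynomial.map (σ := Fin (n + 1)) (algebraMap R R') with
      map_mem := fun {i x} hx => MvPolynomial.IsHomogeneous.map hx _ }
  have hφA : ∀ b, φ b = algebraMap (MvPolynomial (Fin (n + 1)) R) (MvPolynomial (Fin (n + 1)) R') b :=
    fun b => rfl
  have hX : ∀ i, φ (MvPolynomial.X i) = MvPolynomial.X i := fun i => MvPolynomial.map_X _ _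
  have hirr : HomogeneousIdeal.irrelevant (CohB1.polyGrading n R') ≤
      (HomogeneousIdeal.irrelevant (CohB1.polyGrading n R)).map φ := by
    intro x hx
    have hx0 : MvPolynomial.homogeneousComponent 0 x = 0 := by
      have := (HomogeneousIdeal.mem_irrelevant_iff _ x).mp hx
      exact (MvPolynomial.decomposition.decompose'_apply x 0).symm.trans this
    have hxs : x ∈ Ideal.span ((MvPolynomial.X (R := R')) '' (Set.univ : Set (Fin (n + 1)))) := by
      rw [MvPolynomial.mem_ideal_span_X_image]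
      intro m hm
      by_contra! hcon
      have hm0 : m = 0 := Finsupp.ext fun i => hcon i trivial
      rw [MvPolynomial.homogeneousComponent_zero, MvPolynomial.C_eq_zero] at hx0
      exact MvPolynomial.mem_support_iff.mp hm (hm0 ▸ hx0)
    refine (Ideal.span_le.mpr ?_) hxs
    rintro - ⟨i, -, rfl⟩
    have hX' := Ideal.mem_map_of_mem φ (HomogeneousIdeal.mem_irrelevant_of_mem (CohB1.polyGrading n R)
      one_pos (MvPolynomial.isHomogeneous_X R i))
    exact hX i ▸ hX'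
  have h := Groth.Agent.S3554.result (R := R') (R' := R) (CohB1.polyGrading n R)
    (CohB1.polyGrading n R') φ hφA hirr
  obtain ⟨β, hβ⟩ := exists_iso_pullback_map φ hirr (fun i : Fin (n + 1) => MvPolynomial.X i)
    (fun i => MvPolynomial.isHomogeneous_X _ i) fun y => by
      obtain ⟨i, hi⟩ := Opens.mem_iSup.mp ((QCohLib.iSup_stdOpen n R').ge (Opens.mem_top y))
      exact ⟨i, by rw [hX]; exact hi⟩
  refine ⟨Proj.map φ hirr, h, β, fun i => (hβ i).trans ?_⟩
  exact congrArg (Twist.globalOf (CohB1.polyGrading n R')) (Subtype.ext (hX i))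

end FibVALib

end
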