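import Groth.Agent.FibVALib.Geo
import Groth.Agent.FibVALib.Map
import Groth.Agent.S3572
import Groth.Agent.S3573
import Groth.Agent.CohCmpLib.CanonApps
import Groth.Agent.CohCmpLib.NearFibre
import Groth.Agent.CohCmpLib.PuSec
import Groth.Agent.AmpleDevLib.Pull
import Groth.Agent.ChowLib.Embed
import Groth.Agent.TwistLib.CoordGen
import Groth.Agent.TwistLib.SpecSections

/-!
# Very ample on a fibre with vanishing `H¹` implies very ample nearby
-/

set_option autoImplicit false
set_option maxHeartbeats 2000000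
set_option linter.style.haveILetI false
universe u

open CategoryTheory CategoryTheory.Limits AlgebraicGeometry TopologicalSpace Opposite
open KFlatLib (pb puSec puSecLE)

noncomputable section

namespace FibVALib

theorem isProper_toSpec (n : ℕ) (R : Type u) [CommRing R] : IsProper (CohB1.ProjSpace.toSpec n R) := by
  obtain ⟨q, hq, -⟩ := PicPnLib.exists_map n R
  exact MorphismProperty.of_isPullback hq (ChowLib.isProper_toSpec n)

/-- Very ampleness over a field, by coordinates. -/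
theorem exists_coords {K : Type u} [Field K] {Z : Scheme.{u}} (g : Z ⟶ Spec (CommRingCat.of K)) [IsProper g]
    (M : Z.Modules) (h : RelAmple.IsRelVeryAmplePn g M) :
    ∃ (n : ℕ) (i : Z ⟶ CohB1.ProjSpace n K) (_ : IsClosedImmersion i) (_ : i ≫ CohB1.ProjSpace.toSpec n K = g),
      Nonempty (pb i (Twist.twistProjSpace n K 1) ≅ M) := by
  obtain ⟨n, i, hi, hig, ⟨e⟩⟩ := h
  obtain ⟨j, hj, hd⟩ := PicPnLib.exists_square n K (𝟙 (Spec (CommRingCat.of K)))
  have : IsIso j := hj.isIso_fst_of_isIso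
  let i' := i ≫ inv j
  have hij : i' ≫ j = i := by simp [i']
  have hw : i' ≫ CohB1.ProjSpace.toSpec n K = g := by
    rw [← Category.comp_id (CohB1.ProjSpace.toSpec n K), ← hj.w, ← Category.assoc, hij]
    exact hig
  have := isProper_toSpec n K
  have : IsProper (i' ≫ CohB1.ProjSpace.toSpec n K) := by rw [hw]; infer_instance
  have : IsProper i' := IsProper.of_comp i' (CohB1.ProjSpace.toSpec n K)
  have : IsImmersion i' := inferInstanceAs (IsImmersion (i ≫ inv j))
  refine ⟨n, i', IsClosedImmersion.of_isPreimmersion i' i'.isClosedMap.isClosed_range, hw, ⟨?_⟩⟩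
  exact (Scheme.Modules.pullback i').mapIso (hd 1).some.symm ≪≫ (Scheme.Modules.pullbackComp i' j).app _ ≪≫
    (Scheme.Modules.pullbackCongr hij).app _ ≪≫ e.symm

theorem puSecLE_top {X Y : Scheme.{u}} (f : X ⟶ Y) (M : Y.Modules) (m : Γ(M, (⊤ : Y.Opens)))
    (h : (⊤ : X.Opens) ≤ f ⁻¹ᵁ ⊤) : puSecLE f M h m = (puSec f m : Γ(pb f M, f ⁻¹ᵁ ⊤)) :=
  congr($((pb f M).presheaf.map_id _) (puSec f m))

variable {X S : Scheme.{u}}

/-- If an invertible module is very ample on the fibre over `y` and has no `H¹` there, it is very ample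
over a neighbourhood of `y`. -/
theorem exists_open_isRelVeryAmplePn (f : X ⟶ S) [IsProper f] [Flat f] [LocallyOfFinitePresentation f]
    {L : X.Modules} (hL : PicF.IsInvertible L) (y : S)
    (hva : RelAmple.IsRelVeryAmplePn (f.fiberToSpecResidueField y) (CohIII.fiberMod f L y))
    (h1 : Subsingleton (CohIII.fiberH f L y 1)) :
    ∃ U : S.Opens, y ∈ U ∧ RelAmple.IsRelVeryAmplePn (f ∣_ U) (L.restrict (f ⁻¹ᵁ U).ι) := by
  classical
  haveI : IsProper (f.fiberToSpecResidueField y) := MorphismProperty.pullback_snd f (S.fromSpecResidueField y) ‹_›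
  obtain ⟨n, i', hi', hi'f, ⟨τy⟩⟩ := exists_coords (K := S.residueField y) (f.fiberToSpecResidueField y) _ hva
  obtain ⟨hQ, hfp, hfl⟩ := CohCmpLib.rank_one_hyps f ((CohCmpLib.invertible_iff_rank_one L).1 hL)
  have he := CohCmpLib.epi_bc0_of_vanishing_one f hfp hfl y h1
  -- lift the coordinates
  let e : Fin (n + 1) → Γ(CohIII.fiberMod f L y, ⊤) := fun k =>
    τy.hom.app ⊤ (ProjUP.pullSec i' _ (ProjUP.coord n (S.residueField y) k))
  choose O hyO hO m hm using fun k => CohCmpLib.exists_lift_section f y he (e k)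
  -- where they generate
  let G : Set X := ⋃ k, {x : X | ∃ hx : x ∈ f ⁻¹ᵁ O k, AmpleLib.GenAt L (m k) hx}
  have hG : IsOpen G := isOpen_iUnion fun k => CohCmpLib.isOpen_genAt_on hL (m k)
  have hfib : ∀ x : X, f x = y → x ∈ G := fun x hx => by
    obtain ⟨z, rfl⟩ : x ∈ Set.range (f.fiberι y) := by rw [f.range_fiberι]; exact hx
    obtain ⟨k, hk⟩ := TwistLib.exists_genAt_coord n (S.residueField y) i' z
    have hk' : AmpleLib.GenAt (CohIII.fiberMod f L y) (e k) (show z ∈ (⊤ : (f.fiber y).Opens) from trivial) :=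
      (TwistLib.genAt_app_iso τy _ (Set.mem_univ z)).mpr hk
    rw [← hm k, KFlatLib.puSecLE_apply] at hk'
    exact Set.mem_iUnion.mpr ⟨k, hO k (show z ∈ (⊤ : (f.fiber y).Opens) from trivial),
      CohCmpLib.genAt_of_puSec (f.fiberι y) hL (m k) _
        ((AmpleLib.genAt_res (hO k) (puSec (f.fiberι y) (m k)) trivial).1 hk')⟩
  have hC : IsClosed (f '' Gᶜ) := f.isClosedMap _ hG.isClosed_compl
  let O' : S.Opens := (Finset.univ.inf O) ⊓ ⟨(f '' Gᶜ)ᶜ, hC.isOpen_compl⟩
  have hyO' : y ∈ O' := by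
    refine ⟨?_, fun ⟨x, hx, hxy⟩ => hx (hfib x hxy)⟩
    exact (Finset.inf_induction (p := fun W : S.Opens => y ∈ W) trivial (fun _ ha _ hb => ⟨ha, hb⟩) fun k _ => hyO k)
  obtain ⟨_, ⟨V, hV, rfl⟩, hyV, hVO⟩ := S.isBasis_affineOpens.exists_subset_of_mem_open hyO' O'.2
  have hV : IsAffineOpen V := hV
  have hVk : ∀ k, V ≤ O k := fun k => le_trans (fun z hz => (hVO hz).1) (Finset.inf_le (Finset.mem_univ k))
  -- sections over `f⁻¹ V`
  let XV : X.Opens := f ⁻¹ᵁ V
  let LV : XV.toScheme.Modules := pb XV.ι L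
  have hLV : PicF.IsInvertible LV := AmpleDevLib.isInvertible_pb _ hL
  have htop : ∀ k, (⊤ : XV.toScheme.Opens) ≤ XV.ι ⁻¹ᵁ (f ⁻¹ᵁ O k) := fun k x _ => hVk k x.2
  let s : Fin (n + 1) → Γ(LV, ⊤) := fun k => puSecLE XV.ι L (htop k) (m k)
  have hs : ProjUP.GeneratedBy LV s := fun x => by
    have hxG : x.1 ∈ G := by
      by_contra hne
      exact (hVO x.2).2 ⟨x.1, hne, rfl⟩
    obtain ⟨k, hx, hk⟩ := Set.mem_iUnion.mp hxG
    refine TwistLib.span_of_genAt LV s x (k := k) ?_
    exact (AmpleLib.genAt_res (htop k) (puSec XV.ι (m k)) trivial).2 (TwistLib.GenAt.puSec XV.ι (x := x) hk)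
  -- the morphism
  let q : XV.toScheme ⟶ Spec Γ(S, V) := f ∣_ V ≫ hV.isoSpec.hom
  obtain ⟨r, hr, τ, hτ⟩ := Groth.Agent.S3572.result (R := Γ(S, V)) n q LV hLV s hs
  have := isProper_toSpec n Γ(S, V)
  have : IsProper (r ≫ CohB1.ProjSpace.toSpec n Γ(S, V)) := by
    rw [hr]; infer_instance
  have : IsProper r := IsProper.of_comp r (CohB1.ProjSpace.toSpec n Γ(S, V))
  -- the fibre
  let gy : Spec (S.residueField y) ⟶ Spec Γ(S, V) := IsOpenImmersion.lift hV.fromSpec (S.fromSpecResidueField y)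
    (by
      rintro _ ⟨z, rfl⟩
      rw [hV.range_fromSpec, Scheme.fromSpecResidueField_apply]
      exact hyV)
  have hgy : gy ≫ hV.fromSpec = S.fromSpecResidueField y := IsOpenImmersion.lift_fac _ _ _
  obtain ⟨j, hj, θ, hθ⟩ := exists_baseChange n (R := Γ(S, V)) (R' := S.residueField y) (Spec.preimage gy).hom
  have hj : IsPullback j (CohB1.ProjSpace.toSpec n (S.residueField y)) (CohB1.ProjSpace.toSpec n Γ(S, V)) gy := by
    have e : Spec.map (CommRingCat.ofHom (Spec.preimage gy).hom) = gy := Spec.map_preimage gy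
    exact e ▸ hj
  let ιV : f.fiber y ⟶ XV.toScheme := IsOpenImmersion.lift XV.ι (f.fiberι y) (by
    rintro _ ⟨z, rfl⟩
    rw [Scheme.Opens.range_ι]
    have h : f (f.fiberι y z) = y := by
      have := Set.mem_range_self (f := f.fiberι y) z
      rwa [f.range_fiberι] at this
    show f (f.fiberι y z) ∈ V
    rw [h]; exact hyV)
  have hιV : ιV ≫ XV.ι = f.fiberι y := IsOpenImmersion.lift_fac _ _ _
  have hqι : q ≫ hV.fromSpec = XV.ι ≫ f := by
    simp only [q, XV, Category.assoc, IsAffineOpen.isoSpec_hom_fromSpec, morphismRestrict_ι]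
  have hVsq : IsPullback XV.ι q f hV.fromSpec :=
    (isPullback_morphismRestrict f V).flip.of_iso (Iso.refl _) (Iso.refl _) hV.isoSpec (Iso.refl _)
      (by simp [XV]) (by simp [q, XV]) (by simp) (by simp)
  have hfy : IsPullback ιV (f.fiberToSpecResidueField y) q gy := by
    refine IsPullback.of_right ?_ ?_ hVsq
    · rw [hιV, hgy]; exact IsPullback.of_hasPullback f (S.fromSpecResidueField y)
    · rw [← cancel_mono hV.fromSpec]
      refine (Category.assoc ιV q _).trans ((congrArg (ιV ≫ ·) hqι).trans ?_)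
      rw [Category.assoc, hgy, ← Category.assoc, hιV]
      exact f.fiber_fac y
  have heq : ιV ≫ r = i' ≫ j := by
    refine Groth.Agent.S3573.result (R := Γ(S, V)) n (ιV ≫ r) (i' ≫ j) ?_
      (((Scheme.Modules.pullbackComp ιV r).app _).symm ≪≫ (Scheme.Modules.pullback ιV).mapIso τ ≪≫
        (Scheme.Modules.pullbackComp ιV XV.ι).app L ≪≫ (Scheme.Modules.pullbackCongr hιV).app L ≪≫ τy.symm ≪≫
        (Scheme.Modules.pullback i').mapIso θ.symm ≪≫ (Scheme.Modules.pullbackComp i' j).app _) fun k => ?_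
    · exact ((Category.assoc ιV r _).trans (congrArg (ιV ≫ ·) hr)).trans (hfy.w.trans
        (((congrArg (· ≫ gy) hi'f).symm.trans (Category.assoc i' _ gy)).trans
          ((congrArg (i' ≫ ·) hj.w.symm).trans (Category.assoc i' j _).symm)))
    · let O1 := Twist.twistProjSpace n Γ(S, V) 1
      let c : Γ(O1, ⊤) := ProjUP.coord n Γ(S, V) k
      have s1 : ((Scheme.Modules.pullbackComp ιV r).inv.app O1).app ⊤ (ProjUP.pullSec (ιV ≫ r) O1 c) =
          puSec ιV (puSec r c) := by
        refine Eq.trans (congrArg _ (CohCmpLib.pullbackComp_puSec ιV r O1 c).symm) ?_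
        exact congr(Scheme.Modules.Hom.app $((Scheme.Modules.pullbackComp ιV r).hom_inv_id_app O1) ⊤
          (puSec ιV (puSec r c)))
      have s2 : ((Scheme.Modules.pullback ιV).map τ.hom).app ⊤ (puSec ιV (puSec r c)) = puSec ιV (s k) := by
        have h := (KFlatLib.puSec_natural ιV τ.hom (puSec r c)).trans (congrArg (puSec ιV) (hτ k))
        exact h
      have s3 : ((Scheme.Modules.pullbackComp ιV XV.ι).hom.app L).app ⊤ (puSec ιV (s k)) =
          puSecLE (ιV ≫ XV.ι) L (fun z _ => htop k (show ιV z ∈ (⊤ : XV.toScheme.Opens) from trivial)) (m k) := by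
        rw [← puSecLE_top ιV LV (s k) le_top]
        exact CohCmpLib.pullbackComp_puSecLE ιV XV.ι L (m k) (htop k) le_top
      have s4 : ((Scheme.Modules.pullbackCongr hιV).hom.app L).app ⊤
          (puSecLE (ιV ≫ XV.ι) L (fun z _ => htop k (show ιV z ∈ (⊤ : XV.toScheme.Opens) from trivial)) (m k)) = e k :=
        (CohCmpLib.pullbackCongr_puSec hιV L (m k) _ (hO k)).trans (hm k)
      have s5 : τy.inv.app ⊤ (e k) = ProjUP.pullSec i' _ (ProjUP.coord n (S.residueField y) k) :=
        congr(Scheme.Modules.Hom.app $(τy.hom_inv_id) ⊤ (ProjUP.pullSec i' _ (ProjUP.coord n (S.residueField y) k)))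
      have s6 : ((Scheme.Modules.pullback i').map θ.inv).app ⊤
          (ProjUP.pullSec i' _ (ProjUP.coord n (S.residueField y) k)) = puSec i' (puSec j c) := by
        have h0 : θ.inv.app ⊤ (ProjUP.coord n (S.residueField y) k) = puSec j c := by
          rw [← hθ k]
          exact congr(Scheme.Modules.Hom.app $(θ.hom_inv_id) ⊤ (puSec j c))
        have h := (KFlatLib.puSec_natural i' θ.inv (show Γ(Twist.twistProjSpace n (S.residueField y) 1, ⊤)
          from ProjUP.coord n (S.residueField y) k)).trans (congrArg (puSec i') h0)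
        exact h
      have s7 : ((Scheme.Modules.pullbackComp i' j).hom.app O1).app ⊤ (puSec i' (puSec j c)) =
          ProjUP.pullSec (i' ≫ j) O1 c := CohCmpLib.pullbackComp_puSec i' j O1 c
      refine Eq.trans ?_ s7
      refine congrArg (((Scheme.Modules.pullbackComp i' j).hom.app O1).app ⊤) ?_
      refine Eq.trans (congrArg (((Scheme.Modules.pullback i').map θ.inv).app ⊤) ?_) s6
      refine Eq.trans (congrArg (τy.inv.app ⊤) ?_) s5
      refine Eq.trans (congrArg (((Scheme.Modules.pullbackCongr hιV).hom.app L).app ⊤) ?_) s4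
      refine Eq.trans (congrArg (((Scheme.Modules.pullbackComp ιV XV.ι).hom.app L).app ⊤) ?_) s3
      exact Eq.trans (congrArg (((Scheme.Modules.pullback ιV).map τ.hom).app ⊤) s1) s2
  have hZ : IsPullback ιV i' r j :=
    IsPullback.of_bot (v₂₁ := CohB1.ProjSpace.toSpec n (S.residueField y)) (v₂₂ := CohB1.ProjSpace.toSpec n Γ(S, V))
      (by rw [hi'f, hr]; exact hfy) heq hj
  -- closed immersion over a neighbourhood
  have hmono : IsPullback gy (𝟙 _) hV.fromSpec (S.fromSpecResidueField y) :=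
    IsPullback.of_isLimit' ⟨by rw [Category.id_comp, hgy]⟩ (PullbackCone.IsLimit.mk _ (fun c => c.snd)
      (fun c => by rw [← cancel_mono hV.fromSpec, Category.assoc, hgy, c.condition]) (fun c => Category.comp_id _)
      fun c l _ hl => (Category.comp_id l).symm.trans hl)
  obtain ⟨W, hW, hWci⟩ := exists_isClosedImmersion_near
    (π := CohB1.ProjSpace.toSpec n Γ(S, V) ≫ hV.fromSpec) (hj.paste_vert hmono) hZ
  let T := CohB1.ProjSpace.toSpec n Γ(S, V)
  have hC' : IsClosed (T '' (W : Set (CohB1.ProjSpace n Γ(S, V)))ᶜ) := T.isClosedMap _ W.2.isClosed_compl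
  let V' : (Spec Γ(S, V)).Opens := ⟨(T '' (W : Set (CohB1.ProjSpace n Γ(S, V)))ᶜ)ᶜ, hC'.isOpen_compl⟩
  have hle : T ⁻¹ᵁ V' ≤ W := fun p hp => by
    by_contra hne
    exact hp ⟨p, hne, rfl⟩
  haveI := hWci
  haveI : IsClosedImmersion (r ∣_ T ⁻¹ᵁ V') := isClosedImmersion_restrict_of_le r hle
  let U : S.Opens := hV.fromSpec ''ᵁ V'
  have hyU : y ∈ U := by
    refine ⟨hV.primeIdealOf ⟨y, hyV⟩, ?_, hV.fromSpec_primeIdealOf ⟨y, hyV⟩⟩
    rintro ⟨p, hp, hpy⟩
    refine hp (hW p ?_)
    rw [Scheme.Hom.comp_apply, hpy]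
    exact hV.fromSpec_primeIdealOf ⟨y, hyV⟩
  have hUV : U ≤ V := fun z hz => by
    obtain ⟨w, -, rfl⟩ := hz
    exact hV.range_fromSpec.le ⟨w, rfl⟩
  let a : (f ⁻¹ᵁ U).toScheme ⟶ XV.toScheme := X.homOfLE (f.preimage_mono hUV)
  have ha : a ≫ XV.ι = (f ⁻¹ᵁ U).ι := X.homOfLE_ι _
  haveI : IsImmersion (a ≫ r) := isImmersion_comp a r (T ⁻¹ᵁ V') (by
    rintro _ ⟨x, rfl⟩
    show (r ≫ T) (a x) ∈ V'
    rw [hr]
    obtain ⟨w, hw, hwx⟩ := x.2
    have e1 : hV.fromSpec (q (a x)) = hV.fromSpec w := by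
      rw [← Scheme.Hom.comp_apply, hqι, ← Scheme.Hom.comp_apply, ← Category.assoc, ha]
      exact hwx.symm
    rw [hV.fromSpec.isOpenEmbedding.injective e1]
    exact hw)
  refine ⟨U, hyU, isRelVeryAmplePn_of_immersion n (R := Γ(S, V)) hV.fromSpec U (f ∣_ U) (a ≫ r) ?_ ?_⟩
  · rw [morphismRestrict_ι, Category.assoc, ← Category.assoc r, hr, hqι, ← Category.assoc, ha]
  · exact ((Scheme.Modules.pullbackComp a r).app _).symm ≪≫ (Scheme.Modules.pullback a).mapIso τ ≪≫
      (Scheme.Modules.pullbackComp a XV.ι).app L ≪≫ (Scheme.Modules.pullbackCongr ha).app L ≪≫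
      ((Scheme.Modules.restrictFunctorIsoPullback (f ⁻¹ᵁ U).ι).app L).symm

end FibVALib

end
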