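import Groth.Agent.S2803
import Groth.Agent.PicPnLib.BaseChange
import Groth.Prelude.Def_LCI2
import Groth.Agent.KFlatLib.PullTensor

/-!
# Immersions near a fibre
-/

set_option autoImplicit false
set_option maxHeartbeats 1000000
universe u

open CategoryTheory CategoryTheory.Limits AlgebraicGeometry TopologicalSpace
open KFlatLib (pb)

noncomputable section

namespace FibVALib

theorem isEmpty_or_isIso {K : Type u} [Field K] {Z : Scheme.{u}} (i : Z ⟶ Spec (CommRingCat.of K))
    [IsClosedImmersion i] : IsEmpty Z ∨ IsIso i := by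
  rcases isEmpty_or_nonempty Z with h | ⟨⟨z⟩⟩
  · exact Or.inl h
  · have : Surjective i := ⟨fun w => ⟨z, Subsingleton.elim (α := PrimeSpectrum K) _ _⟩⟩
    exact Or.inr (isIso_of_isClosedImmersion_of_surjective i)

theorem isClosedImmersion_restrict_of_le {Z P : Scheme.{u}} (r : Z ⟶ P) {O W : P.Opens} (hle : O ≤ W)
    [IsClosedImmersion (r ∣_ W)] : IsClosedImmersion (r ∣_ O) := by
  have h1 : IsClosedImmersion (r ∣_ W ∣_ (W.ι ⁻¹ᵁ O)) := IsZariskiLocalAtTarget.restrict ‹_› _
  rw [MorphismProperty.arrow_mk_iso_iff @IsClosedImmersion (morphismRestrictRestrict r W (W.ι ⁻¹ᵁ O))] at h1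
  rwa [show W.ι ''ᵁ (W.ι ⁻¹ᵁ O) = O by
    rw [Scheme.Hom.image_preimage_eq_opensRange_inf, Scheme.Opens.opensRange_ι]
    exact inf_eq_right.mpr hle] at h1

theorem isClosedImmersion_restrict_iSup {Z P : Scheme.{u}} (r : Z ⟶ P) {ι : Type*} (U : ι → P.Opens)
    (h : ∀ i, IsClosedImmersion (r ∣_ U i)) : IsClosedImmersion (r ∣_ (⨆ i, U i)) := by
  refine IsZariskiLocalAtTarget.of_iSup_eq_top (P := @IsClosedImmersion) (fun i => (⨆ i, U i).ι ⁻¹ᵁ U i) ?_ fun i => ?_
  · rw [← Scheme.Hom.preimage_iSup]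
    exact Scheme.Opens.ι_preimage_self _
  · rw [MorphismProperty.arrow_mk_iso_iff @IsClosedImmersion (morphismRestrictRestrict r _ _)]
    rw [show (⨆ i, U i).ι ''ᵁ ((⨆ i, U i).ι ⁻¹ᵁ U i) = U i by
      rw [Scheme.Hom.image_preimage_eq_opensRange_inf, Scheme.Opens.opensRange_ι]
      exact inf_eq_right.mpr (le_iSup U i)]
    exact h i

/-- If the base change of a proper morphism to the fibre over `y` is a closed immersion, so is the morphism
near the preimage of `y`. -/
theorem exists_isClosedImmersion_near {Z P S Zy Py : Scheme.{u}} {r : Z ⟶ P} [IsProper r] {π : P ⟶ S}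
    {y : S} {j : Py ⟶ P} {π' : Py ⟶ Spec (S.residueField y)}
    (hP : IsPullback j π' π (S.fromSpecResidueField y)) {ι : Zy ⟶ Z} {i' : Zy ⟶ Py}
    (hZ : IsPullback ι i' r j) [IsClosedImmersion i'] :
    ∃ W : P.Opens, (∀ p : P, π p = y → p ∈ W) ∧ IsClosedImmersion (r ∣_ W) := by
  have key : ∀ p : P, π p = y → ∃ U : P.Opens, p ∈ U ∧ IsClosedImmersion (r ∣_ U) := by
    rintro p rfl
    let u : Spec (P.residueField p) ⟶ Py := hP.lift (P.fromSpecResidueField p) (Spec.map (π.residueFieldMap p))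
      (π.SpecMap_residueFieldMap_fromSpecResidueField p).symm
    have hu : u ≫ j = P.fromSpecResidueField p := hP.lift_fst _ _ _
    let a : r.fiber p ⟶ Zy := hZ.lift (r.fiberι p) (r.fiberToSpecResidueField p ≫ u)
      (by rw [Category.assoc, hu]; exact r.fiber_fac p)
    have h3 : IsPullback a (r.fiberToSpecResidueField p) i' u :=
      IsPullback.of_right (h₁₁ := a) (h₁₂ := ι)
        (by rw [hZ.lift_fst, hu]; exact IsPullback.of_hasPullback r (P.fromSpecResidueField p))
        (hZ.lift_snd _ _ _) hZ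
    have h4 : IsClosedImmersion (r.fiberToSpecResidueField p) := MorphismProperty.of_isPullback h3 ‹_›
    refine (Groth.Agent.S2803.result r p).2 ⟨?_, ⊤, trivial,
      IsZariskiLocalAtTarget.restrict (P := @UniversallyClosed) (f := r) inferInstance _⟩
    exact @isEmpty_or_isIso (P.residueField p) _ _ (r.fiberToSpecResidueField p) h4
  let T := {U : P.Opens // IsClosedImmersion (r ∣_ U)}
  let W : P.Opens := ⨆ U : T, U.1
  have hW : IsClosedImmersion (r ∣_ W) := isClosedImmersion_restrict_iSup r _ fun U => U.2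
  refine ⟨W, fun p hp => ?_, hW⟩
  obtain ⟨U, hpU, hU⟩ := key p hp
  exact Opens.mem_iSup.mpr ⟨⟨U, hU⟩, hpU⟩

/-- A morphism which is a closed immersion over an open restricts to an immersion. -/
theorem isImmersion_comp {Z' Z P : Scheme.{u}} (a : Z' ⟶ Z) [IsOpenImmersion a] (r : Z ⟶ P) (O : P.Opens)
    [IsClosedImmersion (r ∣_ O)] (h : Set.range a ⊆ r ⁻¹ᵁ O) : IsImmersion (a ≫ r) := by
  let b : Z' ⟶ (r ⁻¹ᵁ O).toScheme := IsOpenImmersion.lift (r ⁻¹ᵁ O).ι a (by rwa [Scheme.Opens.range_ι])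
  have hb : b ≫ (r ⁻¹ᵁ O).ι = a := IsOpenImmersion.lift_fac _ _ _
  have : IsOpenImmersion b := by
    have : IsOpenImmersion (b ≫ (r ⁻¹ᵁ O).ι) := by rw [hb]; infer_instance
    exact IsOpenImmersion.of_comp b (r ⁻¹ᵁ O).ι
  rw [← hb, Category.assoc, ← morphismRestrict_ι]
  infer_instance

/-- Immersions into `P^n_R` over an open of `S` give very ampleness there. -/
theorem isRelVeryAmplePn_of_immersion {S X' : Scheme.{u}} (n : ℕ) {R : Type u} [CommRing R]
    (g : Spec (CommRingCat.of R) ⟶ S) [IsOpenImmersion g] (U : S.Opens) (f' : X' ⟶ U.toScheme)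
    (r : X' ⟶ CohB1.ProjSpace n R) [IsImmersion r] (hr : r ≫ CohB1.ProjSpace.toSpec n R ≫ g = f' ≫ U.ι)
    {L : X'.Modules} (e : pb r (Twist.twistProjSpace n R 1) ≅ L) : RelAmple.IsRelVeryAmplePn f' L := by
  obtain ⟨j, hj, hd⟩ := PicPnLib.exists_square n R g
  have : IsOpenImmersion j := MorphismProperty.of_isPullback hj.flip ‹_›
  let q := CohB1.ProjSpace.toSpec n (ULift.{u} ℤ)
  let i : X' ⟶ CohB1.ProjSpaceOver n U.toScheme :=
    pullback.lift (r ≫ j ≫ pullback.fst q (specULiftZIsTerminal.from S)) f' (specULiftZIsTerminal.hom_ext _ _)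
  let m : CohB1.ProjSpaceOver n U.toScheme ⟶ CohB1.ProjSpaceOver n S :=
    pullback.lift (pullback.fst q (specULiftZIsTerminal.from U.toScheme))
      (pullback.snd q (specULiftZIsTerminal.from U.toScheme) ≫ U.ι) (specULiftZIsTerminal.hom_ext _ _)
  have him : i ≫ m = r ≫ j := by
    apply pullback.hom_ext
    · exact ((Category.assoc i m _).trans (congrArg (i ≫ ·) (pullback.lift_fst ..))).trans
        ((pullback.lift_fst ..).trans (Category.assoc r j _).symm)
    · exact ((Category.assoc i m _).trans (congrArg (i ≫ ·) (pullback.lift_snd ..))).trans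
        ((((Category.assoc i _ U.ι).symm.trans (congrArg (· ≫ U.ι) (pullback.lift_snd ..))).trans
          (hr.symm.trans (congrArg (r ≫ ·) hj.w.symm))).trans (Category.assoc r j _).symm)
  have : IsImmersion (i ≫ m) := by rw [him]; infer_instance
  refine ⟨n, i, IsImmersion.of_comp i m, pullback.lift_snd .., ⟨?_⟩⟩
  exact e.symm ≪≫ (Scheme.Modules.pullback r).mapIso (hd 1).some.symm ≪≫
    (Scheme.Modules.pullback r).mapIso ((Scheme.Modules.pullbackComp j (pullback.fst q _)).app _) ≪≫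
    (Scheme.Modules.pullbackComp r (j ≫ pullback.fst q _)).app _ ≪≫
    (Scheme.Modules.pullbackCongr (show r ≫ j ≫ pullback.fst q _ = i ≫ pullback.fst q _ from
      (pullback.lift_fst _ _ _).symm)).app _ ≪≫
    ((Scheme.Modules.pullbackComp i (pullback.fst q _)).app _).symm

end FibVALib

end
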