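import Groth.Agent.LinSysLib.ImmPn
import Groth.Agent.CurveAmpLib.Affine

/-!
# A normally generated ample module is very ample
-/

set_option autoImplicit false
set_option maxHeartbeats 1000000
universe u

open CategoryTheory CategoryTheory.Limits AlgebraicGeometry TopologicalSpace Opposite
open AmpleLib AmpleThLib
open TwistLib (genSet)

noncomputable section

namespace FibVALib

variable {X : Scheme.{u}} {L : X.Modules}

/-- The coefficients of the global sections of `L` with respect to a local generator. -/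
def coef {U : X.Opens} (e : Γ(L, U)) (F : Set Γ(L, ⊤)) : Set Γ(X, U) :=
  {c | ∃ s ∈ F, c • e = res L le_top s}

/-- The sections of `L^(n+1)` are sums of products. -/
def IsNormallyGenerated (L : X.Modules) : Prop :=
  ∀ n : ℕ, 1 ≤ n → ∀ u : Γ(CohB1.tensorPow L (n + 1), ⊤),
    u ∈ AddSubgroup.closure {t | ∃ (m : Γ(CohB1.tensorPow L n, ⊤)) (s : Γ(L, ⊤)), t = shT m s}

theorem exists_powOneIso (hL : PicF.IsInvertible L) :
    ∃ φ : CohB1.tensorPow L 1 ≅ L, ∀ a : Gens L, φ.hom.app a.1 (pS a.2.1 1) = a.2.1 := by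
  refine exists_iso_gens (fun a : Gens L => a.1) _ _ (gens_cover hL) (fun a => pS_genOn a.2.2 1)
    (fun a => a.2.2) ?_
  intro a b V ha hb
  obtain ⟨c, hc⟩ := (a.2.2 V ha).2 (res L hb b.2.1)
  dsimp only at hc
  refine ⟨c, ?_, hc⟩
  rw [pS_res, pS_res, ← hc, pS_smul, pow_one]

theorem coef_pow_mem (hL : PicF.IsInvertible L) (hng : IsNormallyGenerated L) {U : X.Opens} {e : Γ(L, U)}
    (he : GenOn L e) {n : ℕ} (hn : 1 ≤ n) (u : Γ(CohB1.tensorPow L n, ⊤)) (c : Γ(X, U))
    (hc : c • pS e n = res _ le_top u) : c ∈ NonUnitalSubring.closure (coef e Set.univ) := by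
  induction n, hn using Nat.le_induction generalizing c with
  | base =>
    obtain ⟨φ, hφ⟩ := exists_powOneIso hL
    refine NonUnitalSubring.subset_closure ⟨φ.hom.app ⊤ u, trivial, ?_⟩
    refine Eq.trans ?_ (QCohLib.app_map φ.hom (homOfLE (le_top : U ≤ ⊤)) u)
    change c • e = φ.hom.app U (res _ le_top u)
    rw [← hc, QCohLib.app_smul, hφ ⟨U, e, he⟩]
  | succ n hn ih =>
    have key : ∀ u : Γ(CohB1.tensorPow L (n + 1), ⊤), ∀ c : Γ(X, U), c • pS e (n + 1) = res _ le_top u →
        c ∈ NonUnitalSubring.closure (coef e Set.univ) := by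
      intro u
      induction hng n hn u using AddSubgroup.closure_induction with
      | mem u hu =>
        obtain ⟨m, s, rfl⟩ := hu
        intro c hc
        obtain ⟨a, ha⟩ := exists_coeff m (pS_genOn he n)
        obtain ⟨b, hb⟩ := exists_coeff s he
        have e1 : c • pS e (n + 1) = (a * b) • pS e (n + 1) := by
          rw [hc]
          refine (shT_res le_top m s).trans ?_
          rw [← ha, ← hb]
          exact shT_smul a b (pS e n) e
        rw [((pS_genOn he (n + 1)) U le_rfl).1 (a₁ := c) (a₂ := a * b) (by simpa only [AmpleLib.res_refl] using e1)]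
        exact mul_mem (ih m a ha) (NonUnitalSubring.subset_closure ⟨s, trivial, hb⟩)
      | zero =>
        intro c hc
        have e1 : c • pS e (n + 1) = (0 : Γ(X, U)) • pS e (n + 1) := by
          rw [hc, zero_smul]; exact map_zero _
        rw [((pS_genOn he (n + 1)) U le_rfl).1 (a₁ := c) (a₂ := 0) (by simpa only [AmpleLib.res_refl] using e1)]
        exact zero_mem _
      | add u v _ _ hu hv =>
        intro c hc
        obtain ⟨a, ha⟩ := exists_coeff u (pS_genOn he (n + 1))
        obtain ⟨b, hb⟩ := exists_coeff v (pS_genOn he (n + 1))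
        have e1 : c • pS e (n + 1) = (a + b) • pS e (n + 1) := by
          rw [hc, add_smul, ha, hb]; exact map_add _ _ _
        rw [((pS_genOn he (n + 1)) U le_rfl).1 (a₁ := c) (a₂ := a + b) (by simpa only [AmpleLib.res_refl] using e1)]
        exact add_mem (hu a ha) (hv b hb)
      | neg u _ hu =>
        intro c hc
        have e1 : (-c) • pS e (n + 1) = res _ le_top u := by
          rw [neg_smul, hc]
          exact (congrArg Neg.neg (map_neg _ u)).trans (neg_neg _)
        simpa only [neg_neg] using neg_mem (hu (-c) e1)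
    exact key u c hc

theorem exists_section_gen (hL : PicF.IsInvertible L) (hA : CohB1.IsAmple L) (hng : IsNormallyGenerated L)
    (x : X) : ∃ s : Γ(L, ⊤), x ∈ genSet hL s := by
  obtain ⟨-, h⟩ := (isAmple_iff (hL := hL)).1 hA
  obtain ⟨n, _, hn, ⟨σ, rfl⟩, hx, -⟩ := h x
  obtain ⟨U, e, hxU, he⟩ := TwistLib.exists_genOn hL x
  obtain ⟨c, hc⟩ := exists_coeff σ (pS_genOn he n)
  have hcx : x ∈ X.basicOpen c :=
    (SetLike.ext_iff.mp (mem_genSet_coeff (tensorPow_isInvertible hL n) σ (pS_genOn he n) hc) x).mp ⟨hx, hxU⟩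
  by_contra! hne
  let ev : Γ(X, U) →+* IsLocalRing.ResidueField (X.presheaf.stalk x) :=
    (IsLocalRing.residue _).comp (X.presheaf.germ U x hxU).hom
  suffices h0 : ∀ b ∈ NonUnitalSubring.closure (coef e Set.univ), ev b = 0 by
    exact (IsLocalRing.residue_eq_zero_iff _).mp (h0 c (coef_pow_mem hL hng he hn σ c hc))
      ((X.mem_basicOpen c x hxU).mp hcx)
  intro b hb
  induction hb using NonUnitalSubring.closure_induction with
    | mem b hb =>
      obtain ⟨s, -, hs⟩ := hb
      refine IsLocalRing.residue_eq_zero_iff _ |>.mpr fun hu => hne s ?_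
      exact ((SetLike.ext_iff.mp (mem_genSet_coeff hL s he hs) x).mpr ((X.mem_basicOpen b x hxU).mpr hu)).1
    | zero => exact map_zero ev
    | add a b _ _ ha hb => rw [map_add, ha, hb, add_zero]
    | neg a _ ha => rw [map_neg, ha, neg_zero]
    | mul a b _ _ ha hb => rw [map_mul, ha, zero_mul]

theorem isRelVeryAmplePn_of_isNormallyGenerated {R : Type u} [CommRing R]
    (q : X ⟶ Spec (CommRingCat.of R)) [IsProper q] (hL : PicF.IsInvertible L) (hA : CohB1.IsAmple L)
    (hng : IsNormallyGenerated L) : RelAmple.IsRelVeryAmplePn q L := by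
  classical
  haveI : CompactSpace X := hA.2.1
  haveI : QuasiSeparatedSpace X := quasiSeparatedSpace_of_isAmple hA
  choose s₀ hs₀ using exists_section_gen hL hA hng
  obtain ⟨S, hS⟩ := isCompact_univ.elim_finite_subcover (fun x => (genSet hL (s₀ x) : Set X))
    (fun x => (genSet hL (s₀ x)).2) fun x _ => Set.mem_iUnion.mpr ⟨x, hs₀ x⟩
  have hgen : ∀ x : X, ∃ F : Finset Γ(L, ⊤), Subring.closure
      (Set.range (q.appLE ⊤ (genSet hL (s₀ x)) le_top) ∪
        coef (res L (le_top : genSet hL (s₀ x) ≤ ⊤) (s₀ x)) F) = ⊤ := by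
    intro x
    let W := genSet hL (s₀ x)
    let e : Γ(L, W) := res L le_top (s₀ x)
    have he : GenOn L e := TwistLib.genSet_genOn hL (s₀ x)
    let t := pS (s₀ x) 1
    have hV : genSet (tensorPow_isInvertible hL 1) t = W := genSet_pS hL (s₀ x) one_pos
    have hall : ∀ a : Γ(X, W), a ∈ Subring.closure (coef e Set.univ) := by
      intro a
      obtain ⟨N, hN⟩ := exists_extend hL t (r := 1) (res _ hV.le (a • pS e 1))
      obtain ⟨u, hu⟩ := hN N le_rfl
      have h1 : (1 : Γ(X, W)) • pS e 1 = res _ le_top t := by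
        rw [one_smul, pS_res]
      have h2 := congrArg (res _ hV.ge) hu
      rw [AmpleLib.res_res, mul_res, AmpleLib.res_res, AmpleLib.res_res, AmpleLib.res_refl,
        ← tPow_coeff hL t he h1 N, one_pow, one_smul] at h2
      have h3 : a • pS e (1 + 1 * N) = res _ le_top u := by
        rw [h2]
        exact ((congrArg (mul hL (a • pS e 1)) (one_smul Γ(X, W) (pS e (1 * N))).symm).trans
          (mul_coeff hL he a 1)).trans (by rw [mul_one]) |>.symm
      exact (NonUnitalSubring.closure_le.mpr (Subring.subset_closure (s := coef e Set.univ))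
        : _ ≤ (Subring.closure (coef e Set.univ)).toNonUnitalSubring) (coef_pow_mem hL hng he (by omega) u a h3)
    have hfin : ∀ a : Γ(X, W), ∃ F : Finset Γ(L, ⊤), a ∈ Subring.closure (coef e (F : Set Γ(L, ⊤))) := by
      intro a
      induction hall a using Subring.closure_induction with
      | mem b hb =>
        obtain ⟨s, -, hs⟩ := hb
        exact ⟨{s}, Subring.subset_closure ⟨s, by simp, hs⟩⟩
      | zero => exact ⟨∅, zero_mem _⟩
      | one => exact ⟨∅, one_mem _⟩
      | add b c _ _ hb hc =>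
        obtain ⟨F, hF⟩ := hb; obtain ⟨G, hG⟩ := hc
        refine ⟨F ∪ G, add_mem (Subring.closure_mono ?_ hF) (Subring.closure_mono ?_ hG)⟩ <;>
          exact fun c ⟨s, hs, hc⟩ => ⟨s, by simp [Finset.mem_coe.mp hs], hc⟩
      | neg b _ hb => exact hb.imp fun F hF => neg_mem hF
      | mul b c _ _ hb hc =>
        obtain ⟨F, hF⟩ := hb; obtain ⟨G, hG⟩ := hc
        refine ⟨F ∪ G, mul_mem (Subring.closure_mono ?_ hF) (Subring.closure_mono ?_ hG)⟩ <;>
          exact fun c ⟨s, hs, hc⟩ => ⟨s, by simp [Finset.mem_coe.mp hs], hc⟩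
    choose F hF using hfin
    have hft : (q.appLE ⊤ W le_top).hom.FiniteType :=
      q.finiteType_appLE (isAffineOpen_top _) (CurveAmpLib.isAffineOpen_genSet q hL hA (s₀ x)) le_top
    let := (q.appLE ⊤ W le_top).hom.toAlgebra
    obtain ⟨G, hG⟩ := (hft : Algebra.FiniteType _ _).out
    refine ⟨G.biUnion F, eq_top_iff.mpr ?_⟩
    rw [← show (Algebra.adjoin _ (G : Set Γ(X, W))).toSubring = ⊤ by rw [hG]; rfl,
      Algebra.adjoin_eq_ring_closure]
    refine Subring.closure_le.mpr (Set.union_subset (fun b hb => Subring.subset_closure (Or.inl hb)) fun b hb => ?_)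
    refine (Subring.closure_mono ?_ (hF b) : b ∈ Subring.closure _)
    rintro c ⟨s, hs, hc⟩
    exact Or.inr ⟨s, Finset.mem_coe.mpr (Finset.mem_biUnion.mpr ⟨b, hb, hs⟩), hc⟩
  choose F hF using hgen
  let A : Finset Γ(L, ⊤) := insert 0 (S.image s₀ ∪ S.biUnion F)
  obtain ⟨m, hm⟩ : ∃ m, A.card = m + 1 :=
    ⟨_, (Nat.succ_pred_eq_of_pos (Finset.card_pos.mpr ⟨0, Finset.mem_insert_self 0 _⟩)).symm⟩
  let ε : A ≃ Fin (m + 1) := A.equivFinOfCardEq hm
  let v : Fin (m + 1) → Γ(L, ⊤) := fun l => (ε.symm l).1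
  refine LinSysLib.exists_immersion_gen q hL v {l | ∃ x ∈ S, v l = s₀ x} (fun x => ?_) ?_ ?_
  · obtain ⟨z, hz, hxz⟩ := Set.mem_iUnion₂.mp (hS (Set.mem_univ x))
    have hzA : s₀ z ∈ A := Finset.mem_insert_of_mem (Finset.mem_union_left _ (Finset.mem_image_of_mem s₀ hz))
    have hvz : v (ε ⟨s₀ z, hzA⟩) = s₀ z := by simp [v]
    exact ⟨ε ⟨s₀ z, hzA⟩, ⟨z, hz, hvz⟩, hvz.symm ▸ hxz⟩
  · exact fun l _ => CurveAmpLib.isAffineOpen_genSet q hL hA (v l)
  · rintro l ⟨x, hx, hl⟩
    refine ⟨⊤, isAffineOpen_top _, le_top, eq_top_iff.mpr ?_⟩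
    have key : ∀ σ, σ = s₀ x → (⊤ : Subring Γ(X, genSet hL σ)) ≤ Subring.closure
        (Set.range (q.appLE ⊤ (genSet hL σ) le_top) ∪
          {c | ∃ l, c • res L (le_top : genSet hL σ ≤ ⊤) σ = res L le_top (v l)}) := by
      rintro σ rfl
      rw [← hF x]
      refine Subring.closure_mono (Set.union_subset_union_right _ ?_)
      rintro c ⟨s, hs, hc⟩
      have hsA : s ∈ A := Finset.mem_insert_of_mem (Finset.mem_union_right _ (Finset.mem_biUnion.mpr ⟨x, hx, hs⟩))
      exact ⟨ε ⟨s, hsA⟩, by simpa [v] using hc⟩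
    exact key (v l) hl

end FibVALib

end
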